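import Mathlib
import Cfsg.Agent.Lib.Helper51.Zass.Defs
import Cfsg.Agent.S0033

/-!
# ZASS (S0690, helper51): package [LIN]

A nontrivial fixed-point-free group `G` of automorphisms of a finite group `K` acts
fixed-point-freely on a nontrivial finite `ZMod p`-space: `K` is nilpotent (Thompson, S0033), so
its centre is nontrivial; take `V` = the elements of order dividing `p` of the centre, for a prime
`p` dividing the order of the centre.
-/

set_option autoImplicit false

universe u

namespace Cfsg.Agent.Lib.Helper32.Zass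

open Cfsg.Agent.Lib.Helper51.Zass

/-- the elements of order dividing `p` in the centre -/
def omegaZ (K : Type u) [Group K] (p : ℕ) : Subgroup K where
  carrier := {z | z ∈ Subgroup.center K ∧ z ^ p = 1}
  one_mem' := ⟨Subgroup.one_mem _, one_pow _⟩
  mul_mem' := by
    rintro a b ⟨ha, ha'⟩ ⟨hb, hb'⟩
    refine ⟨Subgroup.mul_mem _ ha hb, ?_⟩
    have hc : Commute a b := Subgroup.mem_center_iff.1 hb a
    rw [hc.mul_pow, ha', hb', one_mul]
  inv_mem' := by
    rintro a ⟨ha, ha'⟩
    exact ⟨Subgroup.inv_mem _ ha, by rw [inv_pow, ha', inv_one]⟩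

theorem omegaZ_map {K : Type u} [Group K] (p : ℕ) (φ : MulAut K) {z : K}
    (hz : z ∈ omegaZ K p) : φ z ∈ omegaZ K p := by
  obtain ⟨hz1, hz2⟩ := hz
  refine ⟨?_, ?_⟩
  · rw [Subgroup.mem_center_iff]
    intro g
    have h := Subgroup.mem_center_iff.1 hz1 (φ.symm g)
    have h2 := congrArg φ h
    rw [map_mul, map_mul, MulEquiv.apply_symm_apply] at h2
    exact h2
  · rw [← map_pow, hz2, map_one]

instance omegaZ_commGroup (K : Type u) [Group K] (p : ℕ) : CommGroup (omegaZ K p) :=
  { (inferInstance : Group (omegaZ K p)) with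
    mul_comm := fun a b => Subtype.ext (Subgroup.mem_center_iff.1 b.2.1 a.1) }

theorem omegaZ_nsmul (K : Type u) [Group K] (p : ℕ) (x : Additive (omegaZ K p)) :
    p • x = 0 := by
  have h : (Additive.toMul x) ^ p = 1 := by
    apply Subtype.ext
    rw [Subgroup.coe_pow, Subgroup.coe_one]
    exact (Additive.toMul x).2.2
  calc p • x = Additive.ofMul ((Additive.toMul x) ^ p) := rfl
    _ = 0 := by rw [h]; rfl

/-- restriction of an automorphism to `omegaZ` -/
def resHom (K : Type u) [Group K] (p : ℕ) (φ : MulAut K) : omegaZ K p →* omegaZ K p where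
  toFun w := ⟨φ w.1, omegaZ_map p φ w.2⟩
  map_one' := Subtype.ext (map_one φ)
  map_mul' a b := Subtype.ext (map_mul φ a.1 b.1)

instance omegaZ_module (K : Type u) [Group K] (p : ℕ) [Fact p.Prime] :
    Module (ZMod p) (Additive (omegaZ K p)) :=
  AddCommGroup.zmodModule (omegaZ_nsmul K p)

/-- the linear action -/
def rho (K : Type u) [Group K] (p : ℕ) [Fact p.Prime] (G : Subgroup (MulAut K)) :
    ↥G →* Module.End (ZMod p) (Additive (omegaZ K p)) where
  toFun g := (MonoidHom.toAdditive (resHom K p (g : MulAut K))).toZModLinearMap p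
  map_one' := by
    apply LinearMap.ext
    intro v
    rw [Module.End.one_apply]
    show Additive.ofMul (resHom K p ((1 : ↥G) : MulAut K) (Additive.toMul v)) = v
    have h1 : resHom K p ((1 : ↥G) : MulAut K) (Additive.toMul v) = Additive.toMul v := by
      apply Subtype.ext
      show ((1 : ↥G) : MulAut K) (Additive.toMul v).1 = (Additive.toMul v).1
      rw [Subgroup.coe_one]
      rfl
    rw [h1]
    rfl
  map_mul' := by
    intro g h
    apply LinearMap.ext
    intro v
    rw [Module.End.mul_apply]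
    show Additive.ofMul (resHom K p ((g * h : ↥G) : MulAut K) (Additive.toMul v)) =
      Additive.ofMul (resHom K p (g : MulAut K) (resHom K p (h : MulAut K) (Additive.toMul v)))
    have h1 : resHom K p ((g * h : ↥G) : MulAut K) (Additive.toMul v) =
        resHom K p (g : MulAut K) (resHom K p (h : MulAut K) (Additive.toMul v)) := by
      apply Subtype.ext
      show ((g * h : ↥G) : MulAut K) (Additive.toMul v).1 =
        (g : MulAut K) ((h : MulAut K) (Additive.toMul v).1)
      rw [Subgroup.coe_mul]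
      rfl
    rw [h1]

theorem rho_apply (K : Type u) [Group K] (p : ℕ) [Fact p.Prime] (G : Subgroup (MulAut K))
    (g : ↥G) (v : Additive (omegaZ K p)) :
    (Additive.toMul (rho K p G g v)).1 = (g : MulAut K) (Additive.toMul v).1 := rfl

/-- **[LIN]** -/
theorem pkgLin : PkgLin.{u} := by
  intro K _ _ G hfpf _hperf hne
  classical
  have hcard : Nat.card G ≠ 1 := fun h => hne (Subgroup.card_eq_one.1 h)
  obtain ⟨q, hq, hqd⟩ := Nat.exists_prime_and_dvd hcard
  haveI : Fact q.Prime := ⟨hq⟩
  obtain ⟨φ0, hφ0⟩ := exists_prime_orderOf_dvd_card' q hqd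
  have hφ1 : (φ0 : MulAut K) ≠ 1 := by
    intro h
    have h1 : φ0 = 1 := Subtype.ext h
    rw [h1, orderOf_one] at hφ0
    exact hq.one_lt.ne hφ0
  have hnil : Group.IsNilpotent K :=
    Cfsg.Agent.S0033.result (φ0 : MulAut K) (fun k hk => hfpf _ φ0.2 hφ1 k hk) q hq
      (by rw [Subgroup.orderOf_coe]; exact hφ0)
  haveI : Nontrivial K := by
    by_contra hK
    rw [not_nontrivial_iff_subsingleton] at hK
    exact hφ1 (MulEquiv.ext fun k => Subsingleton.elim _ _)
  haveI : Group.IsNilpotent K := hnil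
  have hZ : Subgroup.center K ≠ ⊥ := Group.IsNilpotent.center_ne_bot K
  have hZc : Nat.card (Subgroup.center K) ≠ 1 := fun h => hZ (Subgroup.card_eq_one.1 h)
  obtain ⟨p, hp, hpd⟩ := Nat.exists_prime_and_dvd hZc
  haveI hpf : Fact p.Prime := ⟨hp⟩
  obtain ⟨z, hz⟩ := exists_prime_orderOf_dvd_card' p hpd
  have hzp : (z : K) ^ p = 1 := by
    have h1 := pow_orderOf_eq_one z
    rw [hz] at h1
    have h2 := congrArg Subtype.val h1
    rw [Subgroup.coe_pow, Subgroup.coe_one] at h2
    exact h2
  have hz1 : (z : K) ≠ 1 := by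
    intro h
    have h2 : z = 1 := Subtype.ext h
    rw [h2, orderOf_one] at hz
    exact hp.one_lt.ne hz
  have hnt : Nontrivial (Additive (omegaZ K p)) := by
    refine ⟨⟨Additive.ofMul ⟨z.1, z.2, hzp⟩, 0, ?_⟩⟩
    intro h
    have h1 : (⟨z.1, z.2, hzp⟩ : omegaZ K p) = 1 := h
    exact hz1 (congrArg Subtype.val h1)
  refine ⟨p, hpf, Additive (omegaZ K p), inferInstance, inferInstance, inferInstance, hnt,
    rho K p G, ?_⟩
  intro g hg v hv
  have hg' : (g : MulAut K) ≠ 1 := fun h => hg (Subtype.ext h)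
  have h1 : (g : MulAut K) (Additive.toMul v).1 = (Additive.toMul v).1 := by
    rw [← rho_apply K p G g v, hv]
  have h2 := hfpf _ g.2 hg' _ h1
  have h3 : Additive.toMul v = 1 := Subtype.ext h2
  exact h3

end Cfsg.Agent.Lib.Helper32.Zass
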